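import Cfsg.Agent.S1055
import Cfsg.Agent.S1059
import Cfsg.Agent.H78.Pw.Base
import Cfsg.Agent.H311.HexCard
import Cfsg.Agent.H332.Cyc.G2Big
import Cfsg.Agent.H541.PRegG2
import Cfsg.Agent.H913.LD.PrimeTo
import Cfsg.Agent.H227.Pw.GNineT
import Cfsg.Agent.H227.Pw.GNinePar

/-!
# `G₂(9)`: every element is a product of two elements of order prime to 6 (helper227, for S2465)
-/

set_option autoImplicit false

namespace Cfsg.Agent.H227.Pw

open Cfsg Cfsg.Lie Subgroup
open Cfsg.Agent.ChevalleyStructure.Elts Cfsg.Agent.ChevalleyStructure.NConj Cfsg.Agent.Hexagon.G2Side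
open Cfsg.Agent.Hexagon.G2Pos Cfsg.Agent.Hexagon.G2Rel
open Cfsg.Agent.TitsThree.RankTwoZ Cfsg.Agent.Cit.HexBase Cfsg.Agent.Cit.HexG2 Cfsg.Agent.Lib.SL2Mat
open Cfsg.Agent.GTwoOdd
open Cfsg.Agent.ClassificationK.GTwoChev (ph ph6 ph7)

universe u

variable {F : Type u} [Field F]

theorem isT_mem (h2 : (2 : F) ≠ 0) {g : ↥(chevG2.group F)} (h : IsT (Cit.HexG2.g2 F h2) g) :
    (g : GL chevG2.Idx F) ∈ chevG2.diagonalSubgroup F := by
  obtain ⟨s, hs, t, ht, rfl⟩ := h
  change (((ph7 F (dg s hs) * (ph6 F).comp (inc F) (dg t ht) : ↥(chevG2.group F))) : GL chevG2.Idx F) ∈ _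
  rw [Subgroup.coe_mul, MonoidHom.comp_apply, inc_dg]
  exact mul_mem (Cit.HexG2.ph_dg_mem _ _ _) (Cit.HexG2.ph_dg_mem _ _ _)

theorem radical_le (J : Set ℕ) : chevG2.unipotentRadical F J ≤ chevG2.posUnipotent F := by
  refine (closure_le _).2 ?_
  rintro g ⟨r, t, hr, -, hg⟩
  exact subset_closure ⟨r, t, hr, hg⟩

theorem diag_le (J : Set ℕ) : chevG2.diagonalSubgroup F ≤ chevG2.parabolicSubgroup F J :=
  le_trans (show chevG2.diagonalSubgroup F ≤ chevG2.borelSubgroup F from le_sup_right)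
    (show chevG2.borelSubgroup F ≤ chevG2.parabolicSubgroup F J from le_sup_left)

variable [Fintype F]

/-- the centralizer of an element of order `p`, `q` a power of `p ≠ 2` -/
theorem card_cent_unip (h2 : (2 : F) ≠ 0) (p : ℕ) [hp : Fact p.Prime] [CharP F p] {u : ↥(chevG2.group F)}
    (hu : orderOf u = p) :
    (Fintype.card F - 1) * Nat.card (centralizer ({u} : Set ↥(chevG2.group F))) ≤
      (1 + Fintype.card F) * (Fintype.card F ^ 6 * (Fintype.card F - 1) ^ 2) := by
  classical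
  have hD : chevG2 ∈ [chevG2, chevB2, chevD4, chevF4, chevE6, chevE7, chevE8] := by simp
  have hou : orderOf (u : GL chevG2.Idx F) = p := by rw [Subgroup.orderOf_coe, hu]
  have hu1 : u ≠ 1 := by
    rintro rfl
    rw [orderOf_one] at hu
    exact hp.out.one_lt.ne hu
  obtain ⟨g, hg, J, ⟨i, hi, hiJ⟩, hN, hR⟩ := S2154.result (F := F) p chevG2 hD (zpowers (u : GL chevG2.Idx F))
    (by rw [Subgroup.zpowers_le]; exact u.2)
    (IsPGroup.of_card (n := 1) (by rw [Nat.card_zpowers, hou, pow_one]))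
    (by
      rw [Ne, Subgroup.zpowers_eq_bot]
      exact fun h => hu1 (Subtype.ext h))
  -- the conjugate in the radical
  let γ : ↥(chevG2.group F) := ⟨g, hg⟩
  have hw : ((γ⁻¹ * u * γ : ↥(chevG2.group F)) : GL chevG2.Idx F) ∈ chevG2.unipotentRadical F J := by
    obtain ⟨w, hw, e⟩ := hR (Subgroup.mem_zpowers _)
    have e2 : g * w * g⁻¹ = u := e
    have : ((γ⁻¹ * u * γ : ↥(chevG2.group F)) : GL chevG2.Idx F) = w := by
      change g⁻¹ * (u : GL chevG2.Idx F) * g = w
      rw [← e2]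
      group
    rwa [this]
  have hw1 : γ⁻¹ * u * γ ≠ 1 := by
    intro h
    apply hu1
    have : u = γ * (γ⁻¹ * u * γ) * γ⁻¹ := by group
    rw [this, h]
    group
  obtain ⟨τ, hτ, hinj⟩ := exists_tau (Cit.HexG2.g2 F h2) (pos_Sg (radical_le J hw)) hw1
  have hC : ∀ c ∈ centralizer ({u} : Set ↥(chevG2.group F)),
      ((γ⁻¹ * c * γ : ↥(chevG2.group F)) : GL chevG2.Idx F) ∈ chevG2.parabolicSubgroup F J := by
    intro c hc
    rw [mem_centralizer_singleton_iff] at hc
    have hc' : (c : GL chevG2.Idx F) * u = u * c := by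
      have := congrArg (Subtype.val : ↥(chevG2.group F) → GL chevG2.Idx F) hc
      simpa using this
    have h3 : (c : GL chevG2.Idx F) ∈ normalizer ((zpowers (u : GL chevG2.Idx F) : Subgroup _) : Set (GL chevG2.Idx F)) := by
      refine (Subgroup.centralizer_le_normalizer (s := ((zpowers (u : GL chevG2.Idx F) : Subgroup _) :
        Set (GL chevG2.Idx F)))) ?_
      rw [Subgroup.mem_centralizer_iff]
      rintro y ⟨k, rfl⟩
      exact ((show Commute (c : GL chevG2.Idx F) u from hc').zpow_right k).eq.symm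
    obtain ⟨w, hw, e⟩ := hN ⟨h3, c.2⟩
    have e2 : g * w * g⁻¹ = c := e
    have : ((γ⁻¹ * c * γ : ↥(chevG2.group F)) : GL chevG2.Idx F) = w := by
      change g⁻¹ * (c : GL chevG2.Idx F) * g = w
      rw [← e2]
      group
    rwa [this]
  have key : Nat.card (Fˣ × centralizer ({u} : Set ↥(chevG2.group F))) ≤
      Nat.card ↥(chevG2.parabolicSubgroup F J) := by
    refine Nat.card_le_card_of_injective (fun y : Fˣ × centralizer ({u} : Set ↥(chevG2.group F)) =>
      (⟨((τ y.1 * (γ⁻¹ * y.2 * γ) : ↥(chevG2.group F)) : GL chevG2.Idx F), ?_⟩ :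
        ↥(chevG2.parabolicSubgroup F J))) ?_
    · rw [Subgroup.coe_mul]
      exact mul_mem (diag_le J (isT_mem h2 (hτ _))) (hC _ y.2.2)
    · rintro ⟨d, c, hc⟩ ⟨d', c', hc'⟩ h
      have h1 : τ d * (γ⁻¹ * c * γ) = τ d' * (γ⁻¹ * c' * γ) := by
        apply Subtype.ext
        exact congrArg (Subtype.val : ↥(chevG2.parabolicSubgroup F J) → GL chevG2.Idx F) h
      have hcw : ∀ c ∈ centralizer ({u} : Set ↥(chevG2.group F)),
          (γ⁻¹ * c * γ) * (γ⁻¹ * u * γ) * (γ⁻¹ * c * γ)⁻¹ = γ⁻¹ * u * γ := by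
        intro c hc
        rw [mem_centralizer_singleton_iff] at hc
        calc _ = γ⁻¹ * (c * u) * c⁻¹ * γ := by group
          _ = γ⁻¹ * (u * c) * c⁻¹ * γ := by rw [hc]
          _ = _ := by group
      have h4 : d = d' := by
        apply hinj
        calc τ d * (γ⁻¹ * u * γ) * (τ d)⁻¹ =
            τ d * ((γ⁻¹ * c * γ) * (γ⁻¹ * u * γ) * (γ⁻¹ * c * γ)⁻¹) * (τ d)⁻¹ := by rw [hcw c hc]
          _ = (τ d * (γ⁻¹ * c * γ)) * (γ⁻¹ * u * γ) * (τ d * (γ⁻¹ * c * γ))⁻¹ := by group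
          _ = (τ d' * (γ⁻¹ * c' * γ)) * (γ⁻¹ * u * γ) * (τ d' * (γ⁻¹ * c' * γ))⁻¹ := by rw [h1]
          _ = τ d' * ((γ⁻¹ * c' * γ) * (γ⁻¹ * u * γ) * (γ⁻¹ * c' * γ)⁻¹) * (τ d')⁻¹ := by group
          _ = _ := by rw [hcw c' hc']
      subst h4
      have h5 : γ⁻¹ * c * γ = γ⁻¹ * c' * γ := mul_left_cancel h1
      have h6 : c = c' := mul_left_cancel (mul_right_cancel h5)
      subst h6
      rfl
  rw [Nat.card_prod, Nat.card_units, Nat.card_eq_fintype_card (α := F)] at key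
  exact key.trans (card_par hi hiJ)

theorem card_cent_pow {G : Type*} [Group G] [Finite G] (g : G) (n : ℕ) :
    Nat.card (centralizer ({g} : Set G)) ≤ Nat.card (centralizer ({g ^ n} : Set G)) := by
  apply Subgroup.card_le_of_le
  intro c hc
  rw [mem_centralizer_singleton_iff] at hc ⊢
  exact ((show Commute c g from hc).pow_right n).eq

/-- **`G₂(9)`**. -/
theorem six_g2_nine (hF : Fintype.card F = 9) : H78.Pw.All 6 ↥(chevG2.group F) := by
  classical
  obtain ⟨r, hr⟩ := CharP.exists F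
  obtain ⟨n, hrp, hc⟩ := FiniteField.card F r
  have hr3 : r = 3 := by
    have h1 : r ∣ 9 := by
      rw [← hF, hc]
      exact dvd_pow_self r n.pos.ne'
    have h2 : r ∣ 3 := hrp.dvd_of_dvd_pow (show r ∣ 3 ^ 2 by simpa using h1)
    exact (Nat.prime_dvd_prime_iff_eq hrp Nat.prime_three).1 h2
  subst hr3
  have : Fact (Nat.Prime 3) := ⟨Nat.prime_three⟩
  have h3 : (3 : F) = 0 := by exact_mod_cast CharP.cast_eq_zero F 3
  have h2 : (2 : F) ≠ 0 := by
    intro h
    have : (1 : F) = 3 - 2 := by norm_num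
    rw [h3, h, sub_zero] at this
    exact one_ne_zero this
  have hs : IsSimpleGroup ↥(chevG2.group F) := H332.Cyc.simple_G2 (by omega)
  have hna : ¬ IsMulCommutative ↥(chevG2.group F) :=
    (S1055.result (F := F) ⟨-1, neg_ne_zero.2 one_ne_zero, fun h => h2 (by
      have : (1 : F) + 1 = 0 := by
        nth_rewrite 1 [← h]
        ring
      rw [← this]
      norm_num)⟩).2
  have hcard : Nat.card ↥(chevG2.group F) = 9 ^ 6 * (9 ^ 2 - 1) * (9 ^ 6 - 1) := S1059.result hF
  have hN : Nat.card ↥(chevG2.group F) = N9 := by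
    rw [hcard]
    rfl
  -- the torus of order 73
  obtain ⟨T, hT1, hT2, hT3, -⟩ := H541.PRegG2.tor6 (F := F) hF (by norm_num)
    (M := 9 ^ 6 * (9 - 1) ^ 2 * (9 + 1) ^ 2 * (9 ^ 2 + 9 + 1)) (by rw [hcard]; norm_num) (by norm_num)
  obtain ⟨x, hxT, hx⟩ := H541.PRegTorus.exists_orderOf hT1 (d := 73) (by rw [hT2]; norm_num)
  have hxC : centralizer {x} = T := hT3 x hxT (fun h => by
    have := orderOf_dvd_of_pow_eq_one h
    rw [hx] at this
    norm_num at this)
  have hmd := H332.Cyc.md_three h3 (by omega)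
  obtain ⟨z, hz, hp⟩ := prd73 (G := ↥(chevG2.group F)) hna hN hx (by rw [hxC, hT2]; norm_num) (fun χ hχ => by
    have h4 := hmd χ (H913.LD.charDegree_ne_one hna hχ)
    rw [hF] at h4
    norm_num at h4
    exact h4)
  have hzc : ∀ a : ↥(chevG2.group F), (orderOf (a * z * a⁻¹)).Coprime 6 := by
    intro a
    have : orderOf (a * z * a⁻¹) = orderOf z := by
      have := orderOf_injective (MulAut.conj a).toMonoidHom (MulAut.conj a).injective z
      simpa using this
    rw [this, hz]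
    norm_num
  have hall : ∀ g : ↥(chevG2.group F), Nat.card (centralizer {g}) ≤ 42515280 → H78.Pw.Pr 6 g := by
    intro g hg
    obtain ⟨a, b, e⟩ := hp g hg
    exact ⟨_, _, e, hzc a, hzc b⟩
  intro g
  by_cases hco : (orderOf g).Coprime 6
  · exact H78.Pw.Pr.of_coprime hco
  apply hall
  have h0 : 0 < orderOf g := orderOf_pos g
  have hd : 2 ∣ orderOf g ∨ 3 ∣ orderOf g := by
    by_contra hcon
    push Not at hcon
    apply hco
    rw [show (6 : ℕ) = 2 * 3 by norm_num]
    exact Nat.Coprime.mul_right ((Nat.Prime.coprime_iff_not_dvd Nat.prime_two).2 hcon.1).symm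
      ((Nat.Prime.coprime_iff_not_dvd Nat.prime_three).2 hcon.2).symm
  rcases hd with hd | hd
  · obtain ⟨k, hk⟩ := hd
    have hk0 : k ≠ 0 := by
      rintro rfl
      omega
    have ho : orderOf (g ^ k) = 2 := by
      rw [orderOf_pow_of_dvd hk0 (by rw [hk]; exact dvd_mul_left k 2), hk, Nat.mul_div_cancel _ (Nat.pos_of_ne_zero hk0)]
    refine (card_cent_pow g k).trans ?_
    have h1 := H311.hex_card' (Cit.HexG2.g2 F h2) h2 (t := g ^ k) (by
      rw [← pow_two, ← ho, pow_orderOf_eq_one]) (by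
      intro h
      rw [h, orderOf_one] at ho
      exact absurd ho (by norm_num))
    have h5 : Nat.card ↥(fx (RingEquiv.refl F)) = Nat.card F :=
      Nat.card_congr ⟨fun x => x, fun x => ⟨x, rfl⟩, fun x => rfl, fun x => rfl⟩
    rw [H311.card_sl_eq h5, SLNormal.card_sl, hF] at h1
    exact h1.trans (by norm_num)
  · obtain ⟨k, hk⟩ := hd
    have hk0 : k ≠ 0 := by
      rintro rfl
      omega
    have ho : orderOf (g ^ k) = 3 := by
      rw [orderOf_pow_of_dvd hk0 (by rw [hk]; exact dvd_mul_left k 3), hk, Nat.mul_div_cancel _ (Nat.pos_of_ne_zero hk0)]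
    refine (card_cent_pow g k).trans ?_
    have h1 := card_cent_unip h2 3 ho
    rw [hF, show (1 + 9) * (9 ^ 6 * (9 - 1) ^ 2) = 8 * 42515280 by norm_num, show (9 - 1 : ℕ) = 8 by norm_num] at h1
    exact Nat.le_of_mul_le_mul_left h1 (by norm_num)

end Cfsg.Agent.H227.Pw
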